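import Cfsg.Agent.Lib.KnownSimple.L32Lab.Data

set_option autoImplicit false
set_option maxRecDepth 100000

namespace Cfsg.Agent.Lib.KnownSimple.L32Lab

open Cfsg.Agent.Lib.KnownSimple.Lab Cfsg.Agent.Lib.KnownSimple.L32Lab Dat

theorem hL0c0_c0 : allI (fun i => lowOK D.T lN0 2 0 wr0 i) 0 24 = true := by decide +kernel
theorem hL0c0_u0 : ∀ i, i < 24 → (fun i => lowOK D.T lN0 2 0 wr0 i) i = true :=
  allI_join allI_start hL0c0_c0 rfl
theorem hL0c0 : ∀ i, i < 24 → (fun i => lowOK D.T lN0 2 0 wr0 i) i = true := hL0c0_u0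
theorem hL1c0_c0 : allI (fun i => lowOK D.T lN0 2 0 wr1 i) 0 24 = true := by decide +kernel
theorem hL1c0_u0 : ∀ i, i < 24 → (fun i => lowOK D.T lN0 2 0 wr1 i) i = true :=
  allI_join allI_start hL1c0_c0 rfl
theorem hL1c0 : ∀ i, i < 24 → (fun i => lowOK D.T lN0 2 0 wr1 i) i = true := hL1c0_u0
theorem hL2c0_c0 : allI (fun i => lowOK D.T lN0 2 0 wr2 i) 0 24 = true := by decide +kernel
theorem hL2c0_u0 : ∀ i, i < 24 → (fun i => lowOK D.T lN0 2 0 wr2 i) i = true :=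
  allI_join allI_start hL2c0_c0 rfl
theorem hL2c0 : ∀ i, i < 24 → (fun i => lowOK D.T lN0 2 0 wr2 i) i = true := hL2c0_u0
theorem hL3c0_c0 : allI (fun i => lowOK D.T lN0 2 0 wr3 i) 0 24 = true := by decide +kernel
theorem hL3c0_u0 : ∀ i, i < 24 → (fun i => lowOK D.T lN0 2 0 wr3 i) i = true :=
  allI_join allI_start hL3c0_c0 rfl
theorem hL3c0 : ∀ i, i < 24 → (fun i => lowOK D.T lN0 2 0 wr3 i) i = true := hL3c0_u0
theorem hL4c0_c0 : allI (fun i => lowOK D.T lN0 2 0 wr4 i) 0 24 = true := by decide +kernel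
theorem hL4c0_u0 : ∀ i, i < 24 → (fun i => lowOK D.T lN0 2 0 wr4 i) i = true :=
  allI_join allI_start hL4c0_c0 rfl
theorem hL4c0 : ∀ i, i < 24 → (fun i => lowOK D.T lN0 2 0 wr4 i) i = true := hL4c0_u0
theorem hL5c0_c0 : allI (fun i => lowOK D.T lN0 2 1 wr5 i) 0 24 = true := by decide +kernel
theorem hL5c0_u0 : ∀ i, i < 24 → (fun i => lowOK D.T lN0 2 1 wr5 i) i = true :=
  allI_join allI_start hL5c0_c0 rfl
theorem hL5c0 : ∀ i, i < 24 → (fun i => lowOK D.T lN0 2 1 wr5 i) i = true := hL5c0_u0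
theorem hL6c0_c0 : allI (fun i => lowOK D.T lN0 2 0 wr6 i) 0 24 = true := by decide +kernel
theorem hL6c0_u0 : ∀ i, i < 24 → (fun i => lowOK D.T lN0 2 0 wr6 i) i = true :=
  allI_join allI_start hL6c0_c0 rfl
theorem hL6c0 : ∀ i, i < 24 → (fun i => lowOK D.T lN0 2 0 wr6 i) i = true := hL6c0_u0
theorem hL7c0_c0 : allI (fun i => lowOK D.T lN0 2 0 wr7 i) 0 24 = true := by decide +kernel
theorem hL7c0_u0 : ∀ i, i < 24 → (fun i => lowOK D.T lN0 2 0 wr7 i) i = true :=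
  allI_join allI_start hL7c0_c0 rfl
theorem hL7c0 : ∀ i, i < 24 → (fun i => lowOK D.T lN0 2 0 wr7 i) i = true := hL7c0_u0
theorem hL8c0_c0 : allI (fun i => lowOK D.T lN0 2 0 wr8 i) 0 24 = true := by decide +kernel
theorem hL8c0_u0 : ∀ i, i < 24 → (fun i => lowOK D.T lN0 2 0 wr8 i) i = true :=
  allI_join allI_start hL8c0_c0 rfl
theorem hL8c0 : ∀ i, i < 24 → (fun i => lowOK D.T lN0 2 0 wr8 i) i = true := hL8c0_u0
theorem hLUc0_c0 : allI (fun i => lowOK D.T lN0 2 1 wU i) 0 24 = true := by decide +kernel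
theorem hLUc0_u0 : ∀ i, i < 24 → (fun i => lowOK D.T lN0 2 1 wU i) i = true :=
  allI_join allI_start hLUc0_c0 rfl
theorem hLUc0 : ∀ i, i < 24 → (fun i => lowOK D.T lN0 2 1 wU i) i = true := hLUc0_u0
theorem hLVc0_c0 : allI (fun i => lowOK D.T lN0 2 0 wV i) 0 24 = true := by decide +kernel
theorem hLVc0_u0 : ∀ i, i < 24 → (fun i => lowOK D.T lN0 2 0 wV i) i = true :=
  allI_join allI_start hLVc0_c0 rfl
theorem hLVc0 : ∀ i, i < 24 → (fun i => lowOK D.T lN0 2 0 wV i) i = true := hLVc0_u0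
theorem hLKc0_c0 : allI (fun i => lowOK D.T lN0 2 0 w3 i) 0 24 = true := by decide +kernel
theorem hLKc0_u0 : ∀ i, i < 24 → (fun i => lowOK D.T lN0 2 0 w3 i) i = true :=
  allI_join allI_start hLKc0_c0 rfl
theorem hLKc0 : ∀ i, i < 24 → (fun i => lowOK D.T lN0 2 0 w3 i) i = true := hLKc0_u0
theorem hLP1c0_c0 : allI (fun i => lowOK D.T lN0 2 1 pw1 i) 0 24 = true := by decide +kernel
theorem hLP1c0_u0 : ∀ i, i < 24 → (fun i => lowOK D.T lN0 2 1 pw1 i) i = true :=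
  allI_join allI_start hLP1c0_c0 rfl
theorem hLP1c0 : ∀ i, i < 24 → (fun i => lowOK D.T lN0 2 1 pw1 i) i = true := hLP1c0_u0
theorem hLP2c0_c0 : allI (fun i => lowOK D.T lN0 2 1 pw2 i) 0 24 = true := by decide +kernel
theorem hLP2c0_u0 : ∀ i, i < 24 → (fun i => lowOK D.T lN0 2 1 pw2 i) i = true :=
  allI_join allI_start hLP2c0_c0 rfl
theorem hLP2c0 : ∀ i, i < 24 → (fun i => lowOK D.T lN0 2 1 pw2 i) i = true := hLP2c0_u0
theorem hLP3c0_c0 : allI (fun i => lowOK D.T lN0 2 1 pw3 i) 0 24 = true := by decide +kernel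
theorem hLP3c0_u0 : ∀ i, i < 24 → (fun i => lowOK D.T lN0 2 1 pw3 i) i = true :=
  allI_join allI_start hLP3c0_c0 rfl
theorem hLP3c0 : ∀ i, i < 24 → (fun i => lowOK D.T lN0 2 1 pw3 i) i = true := hLP3c0_u0

end Cfsg.Agent.Lib.KnownSimple.L32Lab
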